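import Groth.Agent.Lib.Cube.Pic
import Groth.Agent.Lib.Cube.Trivs
import Groth.Agent.Lib.Ample.Calculus
import Mathlib.RingTheory.DiscreteValuationRing.Basic

/-!
# Line bundles on a flat scheme over a DVR with integral special fibre, trivial away from it
-/

set_option autoImplicit false
set_option backward.isDefEq.respectTransparency false
set_option linter.all false
set_option synthInstance.maxHeartbeats 200000

universe u

open CategoryTheory CategoryTheory.Limits AlgebraicGeometry Opposite TopologicalSpace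
open GrothLib.Ample GrothLib.Cube

noncomputable section

namespace GrothLib.PicVal26

theorem cst_comp_specMap {R L : Type u} [CommRing R] [CommRing L] {Y : Scheme.{u}}
    (p : Y ⟶ Spec (CommRingCat.of L)) (φ : R →+* L) (W : Y.Opens) (r : R) :
    cst (p ≫ Spec.map (CommRingCat.ofHom φ)) W r = cst p W (φ r) := by
  rw [← appLE_cst p (Spec.map (CommRingCat.ofHom φ)) (V := ⊤) (W := W) le_top]
  show (p.appLE ⊤ W le_top).hom _ = (p.appLE ⊤ W le_top).hom _
  refine congrArg _ ?_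
  show ((Spec.map (CommRingCat.ofHom φ)).appLE ⊤ ⊤ le_top).hom _ = _
  rw [show (Spec.map (CommRingCat.ofHom φ)).appLE ⊤ ⊤ le_top = (Spec.map (CommRingCat.ofHom φ)).appTop from
    Scheme.Hom.appLE_eq_app _]
  exact (ConcreteCategory.congr_hom (Scheme.ΓSpecIso_inv_naturality (CommRingCat.ofHom φ)) r).symm

variable {R : Type u} [CommRing R] {X : Scheme.{u}} (g : X ⟶ Spec (CommRingCat.of R))
  (c : Cocycle X) (π : R)

/-- The parameter as a section of degree zero. -/
def parSect : c.sect 0 ⊤ :=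
  ⟨fun i => cst g _ π, fun i j W hi hj => by rw [pow_zero, one_mul, res_cst, res_cst]⟩

/-- The open where the parameter is invertible. -/
abbrev away : X.Opens := X.basicOpen (cst g ⊤ π)

theorem locus_parSect : c.locus (parSect g c π) = away g π := by
  ext y
  obtain ⟨i, hi⟩ := c.exists_mem y
  simp only [SetLike.mem_coe]
  rw [c.mem_locus_iff _ hi, away]
  show y ∈ X.basicOpen (cst g (⊤ ⊓ c.D i) π) ↔ _
  rw [← res_cst g (le_top : ⊤ ⊓ c.D i ≤ ⊤) π, Scheme.basicOpen_res]
  exact ⟨fun h => h.2, fun h => ⟨⟨trivial, hi⟩, h⟩⟩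

theorem res_of_eq {A B C : X.Opens} (hA : A ≤ B) (hB : B ≤ C) {x : Γ(X, C)} {y : Γ(X, B)} {m : ℕ}
    (h : res hB x = y * cst g B π ^ m) : res (hA.trans hB) x = res hA y * cst g A π ^ m := by
  have := congrArg (res hA) h
  rwa [res_res, map_mul, map_pow, res_cst] at this

/-- A component of a section of the inverse. -/
abbrev comp' {c : Cocycle X} {n : ℕ} {V : X.Opens} (t : (Cube.inv c).sect n V) (i : c.ι) : Γ(X, V ⊓ c.D i) :=
  t.1 i

section Flat

variable [Flat g] (hπ : IsRightRegular π)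
include hπ

theorem cancel_cst (W : X.Opens) {a b : Γ(X, W)} (h : cst g W π * a = cst g W π * b) : a = b :=
  sub_eq_zero.1 (cst_mul_injective g hπ W (by rw [mul_sub, h, sub_self]))

theorem res_away_injective {W : X.Opens} {a b : Γ(X, W)}
    (h : res (inf_le_left : W ⊓ away g π ≤ W) a = res inf_le_left b) : a = b := by
  refine Ample.eq_of_cover (fun V : {V : X.affineOpens // V.1 ≤ W} => V.1.1) (fun V => V.2) (fun y hy => ?_) fun V => ?_
  · obtain ⟨V, hV, hyV, hVW⟩ := exists_isAffineOpen_mem_and_subset hy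
    exact Opens.mem_iSup.2 ⟨⟨⟨V, hV⟩, hVW⟩, hyV⟩
  · have hz : res (X.basicOpen_le (cst g V.1.1 π)) (res V.2 a - res V.2 b) = 0 := by
      have hle : X.basicOpen (cst g V.1.1 π) ≤ W ⊓ away g π := by
        rw [← res_cst g (le_top : V.1.1 ≤ ⊤) π, Scheme.basicOpen_res]
        exact inf_le_inf_right _ V.2
      have h1 := congrArg (res hle) h
      rw [res_res, res_res] at h1
      rw [map_sub, res_res, res_res, h1, sub_self]
    obtain ⟨n, hn⟩ := exists_pow_mul_eq_zero_of_res_basicOpen_eq_zero_of_isCompact X V.1.2.isCompact _ _ hz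
    rw [← map_pow] at hn
    exact sub_eq_zero.1 (cst_mul_injective g (hπ.pow n) V.1.1 hn)

variable {L : Type u} [CommRing L] {φ : R →+* L} {X₀ : Scheme.{u}} {j : X₀ ⟶ X}
  {p : X₀ ⟶ Spec (CommRingCat.of L)} (H : IsPullback j p g (Spec.map (CommRingCat.ofHom φ)))
  (hφ : Function.Surjective φ) (hker : RingHom.ker φ = Ideal.span {π})
include H hφ hker

/-- Functions vanishing on the closed fibre are divisible by the parameter. -/
theorem exists_eq_cst_mul {V : X.Opens} (x : Γ(X, V)) (hx : (j.app V).hom x = 0) : ∃ y, x = cst g V π * y := by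
  have hloc : ∀ W : {W : X.affineOpens // W.1 ≤ V}, ∃ y, res W.2 x = cst g W.1.1 π * y := fun W => by
    refine exists_eq_mul φ H hφ hker W.1.2 _ ?_
    rw [Scheme.Hom.app_eq_appLE] at hx ⊢
    rw [appLE_res, ← res_appLE j (j.preimage_mono W.2) le_rfl, hx, map_zero]
  choose y hy using hloc
  have hcov : V ≤ ⨆ W : {W : X.affineOpens // W.1 ≤ V}, W.1.1 := fun z hz => by
    obtain ⟨W, hW, hzW, hWV⟩ := exists_isAffineOpen_mem_and_subset hz
    exact Opens.mem_iSup.2 ⟨⟨⟨W, hW⟩, hWV⟩, hzW⟩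
  obtain ⟨t, ht⟩ := exists_glue (fun W : {W : X.affineOpens // W.1 ≤ V} => W.1.1) (fun W => W.2) hcov y
    fun A B => by
      refine cancel_cst g π hπ _ ?_
      have ha := congrArg (res (inf_le_left : A.1.1 ⊓ B.1.1 ≤ A.1.1)) (hy A)
      have hb := congrArg (res (inf_le_right : A.1.1 ⊓ B.1.1 ≤ B.1.1)) (hy B)
      simp only [map_mul, res_res, res_cst] at ha hb
      exact ha.symm.trans hb
  refine ⟨t, Ample.eq_of_cover (fun W : {W : X.affineOpens // W.1 ≤ V} => W.1.1) (fun W => W.2) hcov fun W => ?_⟩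
  rw [map_mul, res_cst, ht W, hy W]

/-- A section vanishing on the closed fibre is divisible by the parameter. -/
theorem exists_sect_div (d : Cocycle X) (t : d.sect 1 ⊤) (ht : ∀ i, (j.app (⊤ ⊓ d.D i)).hom (t.1 i) = 0) :
    ∃ s : d.sect 1 ⊤, ∀ i, t.1 i = cst g _ π * s.1 i := by
  choose s hs using fun i => exists_eq_cst_mul g π hπ H hφ hker (t.1 i) (ht i)
  refine ⟨⟨s, fun i k W hi hk => cancel_cst g π hπ W ?_⟩, hs⟩
  have h := d.sect_spec t i k hi hk
  rw [hs i, hs k, map_mul, map_mul, res_cst, res_cst] at h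
  rw [h]
  ring

/-- One of two sections with product divisible by the parameter vanishes on an integral closed fibre. -/
theorem exists_pred [IsIntegral X₀] {e : ℕ} (t : c.sect 1 ⊤) (t' : (Cube.inv c).sect 1 ⊤)
    (h : ∀ i : c.ι, t.1 i * comp' t' i = cst g (⊤ ⊓ c.D i) π ^ (e + 1)) :
    ∃ (s : c.sect 1 ⊤) (s' : (Cube.inv c).sect 1 ⊤), ∀ i : c.ι, s.1 i * comp' s' i = cst g (⊤ ⊓ c.D i) π ^ e := by
  have hπ0 : φ π = 0 := RingHom.mem_ker.1 (hker ▸ Ideal.mem_span_singleton_self π)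
  have h0 : ∀ (W : X.Opens) (V : X₀.Opens) (hV : V ≤ j ⁻¹ᵁ W), (j.appLE W V hV).hom (cst g W π) = 0 := by
    intro W V hV
    rw [appLE_cst, H.w, cst_comp_specMap, hπ0, map_zero]
  by_cases hA : ∀ i : c.ι, (j.app (⊤ ⊓ c.D i)).hom (t.1 i) = 0
  · obtain ⟨s, hs⟩ := exists_sect_div g π hπ H hφ hker c t hA
    refine ⟨s, t', fun i => cancel_cst g π hπ _ ?_⟩
    rw [← mul_assoc, ← hs i, h i, pow_succ']
  by_cases hB : ∀ i : c.ι, (j.app (⊤ ⊓ c.D i)).hom (comp' t' i) = 0
  · obtain ⟨s, hs⟩ := exists_sect_div g π hπ H hφ hker (Cube.inv c) t' hB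
    refine ⟨t, s, fun i => cancel_cst g π hπ _ ?_⟩
    rw [mul_left_comm]
    refine Eq.trans ?_ ((h i).trans (pow_succ' _ _))
    exact congrArg (t.1 i * ·) (hs i).symm
  exfalso
  push Not at hA hB
  obtain ⟨i, hi⟩ := hA
  obtain ⟨k, hk⟩ := hB
  have hne : ∀ {V : X₀.Opens} (a : Γ(X₀, V)), a ≠ 0 → ∃ y, y ∈ X₀.basicOpen a := fun {V} a ha => by
    by_contra hc
    push Not at hc
    exact ha ((basicOpen_eq_bot_iff a).1 (eq_bot_iff.2 fun y hy => (hc y hy).elim))
  obtain ⟨y₁, hy₁⟩ := hne _ hi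
  obtain ⟨y₂, hy₂⟩ := hne _ hk
  obtain ⟨y, -, hyi, hyk⟩ := PreirreducibleSpace.isPreirreducible_univ (X := X₀) _ _
    (X₀.basicOpen ((j.app (⊤ ⊓ c.D i)).hom (t.1 i))).2 (X₀.basicOpen ((j.app (⊤ ⊓ c.D k)).hom (comp' t' k))).2
    ⟨y₁, trivial, hy₁⟩ ⟨y₂, trivial, hy₂⟩
  let V : X₀.Opens := X₀.basicOpen ((j.app (⊤ ⊓ c.D i)).hom (t.1 i)) ⊓ X₀.basicOpen ((j.app (⊤ ⊓ c.D k)).hom (comp' t' k))
  let W : X.Opens := (⊤ ⊓ c.D i) ⊓ (⊤ ⊓ c.D k)
  have hVW : V ≤ j ⁻¹ᵁ W := le_inf (inf_le_left.trans (X₀.basicOpen_le _)) (inf_le_right.trans (X₀.basicOpen_le _))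
  have u1 : IsUnit ((j.appLE W V hVW).hom (res inf_le_left (t.1 i))) := by
    rw [appLE_res, ← res_appLE j (inf_le_left.trans (X₀.basicOpen_le _) : V ≤ j ⁻¹ᵁ (⊤ ⊓ c.D i)) le_rfl,
      ← Scheme.Hom.app_eq_appLE]
    rw [← res_res (X₀.basicOpen_le _) (inf_le_left : V ≤ _)]
    exact (RingedSpace.isUnit_res_basicOpen X₀.toRingedSpace _).map _
  have u2 : IsUnit ((j.appLE W V hVW).hom (res inf_le_right (comp' t' k))) := by
    rw [appLE_res, ← res_appLE j (inf_le_right.trans (X₀.basicOpen_le _) : V ≤ j ⁻¹ᵁ (⊤ ⊓ c.D k)) le_rfl,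
      ← Scheme.Hom.app_eq_appLE]
    rw [← res_res (X₀.basicOpen_le _) (inf_le_right : V ≤ _)]
    exact (RingedSpace.isUnit_res_basicOpen X₀.toRingedSpace _).map _
  have e' := (Cube.inv c).sect_spec t' i k (W := W) inf_le_left inf_le_right
  have hp := congrArg (fun z => (j.appLE W V hVW).hom (res (inf_le_left : W ≤ ⊤ ⊓ c.D i) z)) (h i)
  simp only [map_mul, map_pow, res_cst, h0, zero_pow (Nat.succ_ne_zero e)] at hp
  erw [e'] at hp
  simp only [map_mul, map_pow, pow_one] at hp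
  replace hp := hp.trans ((congrArg (· ^ (e + 1)) (h0 W V hVW)).trans (zero_pow (Nat.succ_ne_zero e)))
  have hu : IsUnit (0 : Γ(X₀, V)) := by
    rw [← hp]
    exact u1.mul ((((Cube.inv c).isUnit_G i k _ _).map _).mul u2)
  haveI : Nontrivial Γ(X₀, V) := @IsDomain.toNontrivial _ _ (@IsIntegral.component_integral X₀ _ V ⟨⟨y, hyi, hyk⟩⟩)
  exact not_isUnit_zero hu

/-- Sections with product a power of the parameter give a trivialisation. -/
theorem triv_of_prod [IsIntegral X₀] : ∀ (e : ℕ) (t : c.sect 1 ⊤) (t' : (Cube.inv c).sect 1 ⊤),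
    (∀ i : c.ι, t.1 i * comp' t' i = cst g (⊤ ⊓ c.D i) π ^ e) → Triv c
  | 0, t, t', h => ⟨t, c.locus_eq_top_of_isUnit _ fun i => IsUnit.of_mul_eq_one _ ((h i).trans (pow_zero _))⟩
  | e + 1, t, t', h => by
    obtain ⟨s, s', hs⟩ := exists_pred g c π hπ H hφ hker t t' h
    exact triv_of_prod e s s' hs

variable [CompactSpace X] [QuasiSeparatedSpace X]

/-- A line bundle trivial away from an integral closed fibre is trivial. -/
theorem triv_of_away [IsIntegral X₀] (h : Triv (c.comap (away g π).ι)) : Triv c := by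
  obtain ⟨A, hA⟩ := h
  let U := c.locus (parSect g c π)
  have hU : U = away g π := locus_parSect g c π
  have hUle : U ≤ (away g π).ι ''ᵁ ⊤ := by rw [Scheme.Hom.image_top_eq_opensRange, Scheme.Opens.opensRange_ι, hU]
  obtain ⟨B, hB⟩ := (c.bijective_pullSect (n := 1) (away g π).ι ⊤).2 A
  let β : c.sect 1 U := c.sectRes hUle B
  have hβu : ∀ i, IsUnit (β.1 i) := fun i => by
    rw [show β.1 i = res (inf_le_inf_right _ hUle) (B.1 i) from c.sectRes_apply hUle B i]
    refine IsUnit.map _ ?_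
    let E := RingEquiv.ofBijective ((away g π).ι.appLE ((away g π).ι ''ᵁ ⊤ ⊓ c.D i) (⊤ ⊓ (away g π).ι ⁻¹ᵁ c.D i)
        (inf_le_inf_right _ (LineData.le_preimage_image _ _))).hom
      (bijective_appLE_of_eq (away g π).ι (inf_le_left.trans ((away g π).ι.image_le_opensRange ⊤))
        (by rw [Scheme.Hom.preimage_inf, (away g π).ι.preimage_image_eq]))
    have hE : E (B.1 i) = A.1 i := (c.pullSect_apply (away g π).ι _ B i).symm.trans (by rw [hB])
    have hAi : IsUnit (A.1 i) := by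
      have hu := isUnit_component hA i (W := ⊤ ⊓ (c.comap (away g π).ι).D i) inf_le_right
      rwa [res_self] at hu
    have hu := (hE.symm ▸ hAi : IsUnit (E (B.1 i))).map E.symm
    rwa [E.symm_apply_apply] at hu
  let v : ∀ i : c.ι, Γ(X, U ⊓ c.D i) := fun i => ((hβu i).unit⁻¹ : Γ(X, U ⊓ c.D i)ˣ).1
  have hv : ∀ i, β.1 i * v i = 1 := fun i => (hβu i).mul_val_inv
  have key : ∀ (i k : c.ι) (W : X.Opens) (hi : W ≤ U ⊓ c.D i) (hk : W ≤ U ⊓ c.D k),
      res hi (v i) = c.G k i (hk.trans inf_le_right) (hi.trans inf_le_right) * res hk (v k) := by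
    intro i k W hi hk
    have e := c.sect_spec β i k hi hk
    have i1 := congrArg (res hi) (hv i)
    have i2 := congrArg (res hk) (hv k)
    rw [map_mul, map_one] at i1 i2
    rw [pow_one] at e
    have eG := c.G_mul_G i k (hi.trans inf_le_right) (hk.trans inf_le_right)
    rw [e] at i1
    linear_combination (c.G k i (hk.trans inf_le_right) (hi.trans inf_le_right) * res hk (v k)) * i1
      - (res hi (v i) * res hk (β.1 k) * res hk (v k)) * eG
      - res hi (v i) * i2
  let β' : (Cube.inv c).sect 1 U := ⟨v, fun i k W hi hk =>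
    (key i k W hi hk).trans (congrArg (· * res hk (v k)) ((inv_G c i k (hi.trans inf_le_right) (hk.trans inf_le_right)).symm.trans (pow_one _).symm))⟩
  obtain ⟨m, b, hb⟩ := c.exists_extend_sect (parSect g c π) β
  have hU' : c.locus (parSect g c π) = (Cube.inv c).locus (parSect g (Cube.inv c) π) :=
    hU.trans (locus_parSect g (Cube.inv c) π).symm
  obtain ⟨m', b', hb'⟩ := (Cube.inv c).exists_extend_sect (parSect g (Cube.inv c) π)
    ((Cube.inv c).sectRes hU'.ge β')
  refine triv_of_prod g c π hπ H hφ hker (m + m') (c.sectCast (by rw [Nat.zero_mul]) b)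
    ((Cube.inv c).sectCast (by rw [Nat.zero_mul]) b') fun i => res_away_injective g π hπ ?_
  have e1 := congrArg (fun z : c.sect (1 + 0 * m) U => z.1 i) hb
  have e2 := congrArg (fun z : (Cube.inv c).sect (1 + 0 * m') _ => z.1 i) hb'
  simp only [Cocycle.sectRes_apply, Cocycle.powMul_apply, res_res, parSect, res_cst] at e1 e2
  have hO : (⊤ ⊓ c.D i) ⊓ away g π ≤ U ⊓ c.D i := le_inf (inf_le_right.trans hU.ge) (inf_le_left.trans inf_le_right)
  have hO' : (⊤ ⊓ c.D i) ⊓ away g π ≤ (Cube.inv c).locus (parSect g (Cube.inv c) π) ⊓ (Cube.inv c).D i :=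
    hO.trans (inf_le_inf_right _ hU'.le)
  have f1 := res_of_eq g π hO _ e1
  have f2 := res_of_eq g π hO' _ e2
  simp only [Cocycle.sectCast_apply, map_mul, map_pow, res_cst]
  erw [f1, f2, mul_mul_mul_comm]
  have hm : res hO (β.1 i) * res hO (comp' β' i) = 1 := by
    rw [← map_mul, show β.1 i * comp' β' i = 1 from hv i, map_one]
  rw [pow_add]
  refine Eq.trans (congrArg (· * _) (Eq.trans (congrArg₂ (· * ·) (congrArg (res hO) (res_self _ _)) (res_res _ _ _)) hm)) (one_mul _)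

end Flat

end GrothLib.PicVal26
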