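import Groth.Agent.Lib.DVRDom.Exists
import Groth.Agent.Lib.DVRDom.Scheme
import Groth.Agent.Lib.AdicExtra.Completion
import Groth.Agent.Lib.WeilExt.Extend
import Groth.Agent.Lib.FEt21.Spread
import Mathlib.RingTheory.DedekindDomain.Dvr
import Mathlib.RingTheory.AdicCompletion.LocalRing
import Mathlib.RingTheory.Flat.FaithfullyFlat.Algebra
import Mathlib.AlgebraicGeometry.Sites.Fpqc

/-!
# Complete discrete valuation rings over points of étale schemes over discrete valuation rings
-/

set_option autoImplicit false
set_option backward.isDefEq.respectTransparency false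
set_option linter.all false
set_option synthInstance.maxHeartbeats 200000

universe u

open CategoryTheory CategoryTheory.Limits AlgebraicGeometry Opposite TopologicalSpace IsLocalRing

noncomputable section

namespace GrothLib.PicVal26

/-- A complete discrete valuation ring. -/
structure CDVR where
  /-- the ring -/
  R : Type u
  [cr : CommRing R]
  [dom : IsDomain R]
  [dvr : IsDiscreteValuationRing R]
  [complete : IsAdicComplete (maximalIdeal R) R]

attribute [instance] CDVR.cr CDVR.dom CDVR.dvr CDVR.complete

instance (B : CDVR.{u}) : HenselianLocalRing B.R where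
  is_henselian f hf a h₁ h₂ := HenselianRing.is_henselian (I := maximalIdeal B.R) f hf a h₁ (h₂.map _)

/-- A finitely generated field over a Noetherian local domain embeds into the fraction field of a complete discrete
valuation ring dominating it. -/
theorem exists_cdvr {A L : Type u} [CommRing A] [IsNoetherianRing A] [IsLocalRing A] [Field L]
    (hA : ¬ IsField A) (f : A →+* L) (hf : Function.Injective f) (s : Finset L)
    (hgen : Subfield.closure (Set.range f ∪ s) = ⊤) :
    ∃ (B : CDVR.{u}) (ψ : A →+* B.R) (ι : L →+* FractionRing B.R),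
      IsLocalHom ψ ∧ Function.Injective ψ ∧ ∀ a, algebraMap B.R (FractionRing B.R) (ψ a) = ι (f a) := by
  letI := f.toAlgebra
  obtain ⟨V, hV, hmem, hlt⟩ := DVRDom.exists_dvr_dominating hA (L := L) hf s hgen
  haveI := hV
  obtain ⟨hd, hdvr⟩ := (GrothLib.AdicExtra.exists_dvr_adicCompletion_iff (A := V)).1 ⟨inferInstance, hV⟩
  let B : CDVR.{u} := { R := AdicCompletion (maximalIdeal V) V }
  let a : V →+* B.R := algebraMap V (AdicCompletion (maximalIdeal V) V)
  have ha : Function.Injective a := by
    intro x y h
    haveI : IsHausdorff (maximalIdeal V) V :=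
      ⟨fun z hz => by
        have := Ideal.iInf_pow_eq_bot_of_isLocalRing (maximalIdeal V) (maximalIdeal.isMaximal _).ne_top
        refine (Submodule.mem_bot V).1 (this ▸ Submodule.mem_iInf _ |>.2 fun n => ?_)
        have := SModEq.zero.1 (hz n)
        rwa [smul_eq_mul, Ideal.mul_top] at this⟩
    exact AdicCompletion.of_injective (maximalIdeal V) V h
  let ψ : A →+* V := f.codRestrict V.toSubring hmem
  refine ⟨B, a.comp ψ, IsFractionRing.lift (K := L) (g := (algebraMap B.R (FractionRing B.R)).comp a)
    ((IsFractionRing.injective B.R (FractionRing B.R)).comp ha), ?_, ha.comp fun x y h => hf (congrArg Subtype.val h),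
    fun x => ?_⟩
  · haveI : IsLocalHom ψ := ⟨fun x hx => by
      by_contra hu
      have h1 := hlt x ((mem_maximalIdeal x).2 hu)
      exact (mem_maximalIdeal _).1 ((V.valuation_lt_one_iff (ψ x)).2 h1) hx⟩
    haveI : IsLocalHom a := inferInstanceAs (IsLocalHom (algebraMap V (AdicCompletion (maximalIdeal V) V)))
    exact RingHom.isLocalHom_comp a ψ
  · exact (IsFractionRing.lift_algebraMap (K := L) (g := (algebraMap B.R (FractionRing B.R)).comp a)
      ((IsFractionRing.injective B.R (FractionRing B.R)).comp ha) (ψ x)).symm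

/-- An injective local map of discrete valuation rings gives a flat surjection of spectra. -/
theorem epi_specMap {R B : Type u} [CommRing R] [IsDomain R] [IsDiscreteValuationRing R] [CommRing B] [IsDomain B]
    [IsLocalRing B] (φ : R →+* B) [IsLocalHom φ] (hφ : Function.Injective φ) :
    Flat (Spec.map (CommRingCat.ofHom φ)) ∧ Epi (Spec.map (CommRingCat.ofHom φ)) := by
  letI := φ.toAlgebra
  haveI : IsLocalHom (algebraMap R B) := ‹IsLocalHom φ›
  haveI : Module.IsTorsionFree R B :=
    Module.isTorsionFree_iff_algebraMap_injective.2 hφ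
  haveI : Module.Flat R B := inferInstance
  haveI : Module.FaithfullyFlat R B := Module.FaithfullyFlat.of_flat_of_isLocalHom
  haveI hfl : Flat (Spec.map (CommRingCat.ofHom φ)) :=
    (HasRingHomProperty.Spec_iff (P := @Flat)).2 (RingHom.flat_algebraMap_iff.2 inferInstance)
  haveI : Surjective (Spec.map (CommRingCat.ofHom φ)) :=
    ⟨PrimeSpectrum.comap_surjective_of_faithfullyFlat⟩
  exact ⟨hfl, inferInstance⟩

variable {R : Type u} [CommRing R] [IsDomain R] [IsDiscreteValuationRing R]

/-- Étale coverings of the spectrum of a discrete valuation ring have points in complete ones. -/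
theorem exists_cdvr_etale {U : Scheme.{u}} (h : U ⟶ Spec (CommRingCat.of R)) [Etale h] (u : U)
    (hu : h u = IsLocalRing.closedPoint R) :
    ∃ (B : CDVR.{u}) (φ : R →+* B.R) (v : Spec (CommRingCat.of B.R) ⟶ U), IsLocalHom φ ∧ Function.Injective φ ∧
      v ≫ h = Spec.map (CommRingCat.ofHom φ) := by
  haveI : IsLocallyNoetherian U := LocallyOfFiniteType.isLocallyNoetherian h
  haveI := WeilExt.isRegularLocalRing_stalk_of_smooth h (fun s => WeilExt.isRegularLocalRing_stalk_spec R s) u
  let A := U.presheaf.stalk u
  haveI : IsDomain A := GrothLib.CMFree.isDomain_of_isRegularLocalRing A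
  let ψ₀ : CommRingCat.of R ⟶ A := Spec.preimage (U.fromSpecStalk u ≫ h)
  have hψ₀ : Spec.map ψ₀ = U.fromSpecStalk u ≫ h := Spec.map_preimage _
  have hflat : RingHom.Flat ψ₀.hom := by
    refine (HasRingHomProperty.Spec_iff (P := @Flat)).1 ?_
    rw [hψ₀]
    haveI := GrothLib.FEt21.flat_fromSpecStalk u
    infer_instance
  haveI hloc : IsLocalHom ψ₀.hom := by
    refine ((IsLocalRing.local_hom_TFAE _).out 0 4).2 ?_
    have : Spec.map ψ₀ (IsLocalRing.closedPoint A) = IsLocalRing.closedPoint R := by
      rw [hψ₀, Scheme.Hom.comp_apply, Scheme.fromSpecStalk_closedPoint, hu]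
    exact congrArg PrimeSpectrum.asIdeal this
  obtain ⟨π, hπ⟩ := IsDiscreteValuationRing.exists_irreducible R
  have hinj : Function.Injective ψ₀.hom := by
    letI := ψ₀.hom.toAlgebra
    haveI : Module.Flat R A := hflat
    haveI : IsLocalHom (algebraMap R A) := hloc
    haveI : Module.FaithfullyFlat R A := Module.FaithfullyFlat.of_flat_of_isLocalHom
    exact FaithfulSMul.algebraMap_injective R A
  have hA : ¬ IsField A := fun hf => by
    letI := hf.toField
    have h0 : ψ₀.hom π ≠ 0 := fun e => hπ.ne_zero (hinj (e.trans (map_zero _).symm))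
    exact hπ.not_isUnit (isUnit_of_map_unit ψ₀.hom π (isUnit_iff_ne_zero.2 h0))
  have hgen : Subfield.closure (Set.range (algebraMap A (FractionRing A)) ∪ (∅ : Finset (FractionRing A))) = ⊤ := by
    rw [eq_top_iff]
    rintro z -
    obtain ⟨a, b, hb, rfl⟩ := IsFractionRing.div_surjective (A := A) z
    exact div_mem (Subfield.subset_closure (Or.inl ⟨a, rfl⟩)) (Subfield.subset_closure (Or.inl ⟨b, rfl⟩))
  obtain ⟨B, ψ, ι, hψl, hψi, hψ⟩ := exists_cdvr hA (algebraMap A (FractionRing A))
    (IsFractionRing.injective _ _) ∅ hgen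
  refine ⟨B, ψ.comp ψ₀.hom, Spec.map (CommRingCat.ofHom ψ) ≫ U.fromSpecStalk u, RingHom.isLocalHom_comp ψ ψ₀.hom,
    hψi.comp hinj, ?_⟩
  rw [Category.assoc, ← hψ₀, ← Spec.map_comp]
  rfl

omit [IsDiscreteValuationRing R] in
/-- Étale coverings of the generic point of a discrete valuation ring have points over complete ones. -/
theorem exists_cdvr_generic [IsDiscreteValuationRing R] {K : Type u} [Field K] [Algebra R K] [IsFractionRing R K]
    {U : Scheme.{u}} (h : U ⟶ Spec (CommRingCat.of K)) [LocallyOfFiniteType h] (u : U) :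
    ∃ (B : CDVR.{u}) (φ : R →+* B.R) (v : Spec (CommRingCat.of (FractionRing B.R)) ⟶ U),
      IsLocalHom φ ∧ Function.Injective φ ∧
      v ≫ h ≫ Spec.map (CommRingCat.ofHom (algebraMap R K)) =
        Spec.map (CommRingCat.ofHom (algebraMap B.R (FractionRing B.R))) ≫ Spec.map (CommRingCat.ofHom φ) := by
  classical
  let L := U.residueField u
  let k : CommRingCat.of K ⟶ L := Spec.preimage (U.fromSpecResidueField u ≫ h)
  have hk : Spec.map k = U.fromSpecResidueField u ≫ h := Spec.map_preimage _
  obtain ⟨s, hs⟩ := DVRDom.exists_finset_residueField u h (V := ⊤) (isAffineOpen_top _) trivial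
  let f : R →+* L := k.hom.comp (algebraMap R K)
  have hgen : Subfield.closure (Set.range f ∪ (s : Set L)) = ⊤ := by
    rw [eq_top_iff, ← hs, Subfield.closure_le]
    rintro z (⟨b, rfl⟩ | hz)
    · have e : DVRDom.ev (L := L) (U.fromSpecResidueField u ≫ h) ⊤ trivial =
          (Scheme.ΓSpecIso (CommRingCat.of K)).hom ≫ k := by
        apply DVRDom.specMap_injective (isAffineOpen_top _)
        rw [DVRDom.specMap_ev, Spec.map_comp, Category.assoc, ← hk]
        simp [IsAffineOpen.fromSpec_top, Scheme.isoSpec_Spec_inv, ← Spec.map_comp_assoc, ← Spec.map_comp]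
      erw [e]
      obtain ⟨a, c, hc, hac⟩ := IsFractionRing.div_surjective (A := R) ((Scheme.ΓSpecIso (CommRingCat.of K)).hom b)
      show k.hom ((Scheme.ΓSpecIso (CommRingCat.of K)).hom b) ∈ _
      rw [← hac, map_div₀]
      exact div_mem (Subfield.subset_closure (Or.inl ⟨a, rfl⟩)) (Subfield.subset_closure (Or.inl ⟨c, rfl⟩))
    · exact Subfield.subset_closure (Or.inr hz)
  obtain ⟨B, ψ, ι, hψl, hψi, hψ⟩ := exists_cdvr (IsDiscreteValuationRing.not_isField R) f
    (k.hom.injective.comp (IsFractionRing.injective R K)) s hgen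
  refine ⟨B, ψ, Spec.map (CommRingCat.ofHom ι) ≫ U.fromSpecResidueField u, hψl, hψi, ?_⟩
  rw [Category.assoc, ← Category.assoc (U.fromSpecResidueField u), ← hk, ← Spec.map_comp, ← Spec.map_comp,
    ← Spec.map_comp]
  exact congrArg Spec.map (CommRingCat.hom_ext (RingHom.ext fun r => (hψ r).symm))

end GrothLib.PicVal26
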