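import Groth.Agent.Lib.PicVal26.Core
import Groth.Agent.Lib.PicVal26.Ext
import Groth.Agent.Lib.RigDesc26.Disjoint
import Groth.Agent.Lib.Chev28.PropConn
import Groth.Agent.Lib.Ref1.Connected
import Groth.Agent.Lib.SecComp6.Univ.Dvr
import Mathlib.AlgebraicGeometry.Morphisms.Proper
import Mathlib.AlgebraicGeometry.Morphisms.Smooth

/-!
# Line bundles trivial on the generic fibre of a smooth proper scheme over a complete DVR
-/

set_option autoImplicit false
set_option backward.isDefEq.respectTransparency false
set_option linter.all false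
set_option synthInstance.maxHeartbeats 200000

universe u

open CategoryTheory CategoryTheory.Limits AlgebraicGeometry Opposite TopologicalSpace IsLocalRing
open GrothLib.Ample GrothLib.Cube

noncomputable section

namespace GrothLib.PicVal26

variable {R : Type u} [CommRing R] [IsDomain R] [IsDiscreteValuationRing R]

theorem eq_closedPoint_or_notMem {π : R} (hπ : Irreducible π) (x : PrimeSpectrum R) (h : π ∉ x.asIdeal) :
    x.asIdeal = ⊥ := by
  by_contra hne
  have : x.asIdeal = maximalIdeal R := eq_maximalIdeal (x.2.isMaximal hne)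
  exact h (this ▸ (mem_maximalIdeal π).2 hπ.not_isUnit)

/-- The generic point is open. -/
theorem isOpenImmersion_frac {K : Type u} [Field K] [Algebra R K] [IsFractionRing R K] :
    IsOpenImmersion (Spec.map (CommRingCat.ofHom (algebraMap R K))) := by
  obtain ⟨π, hπ⟩ := IsDiscreteValuationRing.exists_irreducible R
  haveI : IsLocalization.Away π K := by
    refine ⟨?_, fun z => ?_, fun {x y} e => ⟨1, by simpa using IsFractionRing.injective R K e⟩⟩
    · rintro ⟨y, n, rfl⟩
      exact isUnit_iff_ne_zero.2 (fun e => hπ.ne_zero (pow_eq_zero_iff'.1 ((IsFractionRing.injective R K) (e.trans (map_zero _).symm))).1)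
    · obtain ⟨a, b, hb, rfl⟩ := IsFractionRing.div_surjective (A := R) z
      obtain ⟨m, u, rfl⟩ := IsDiscreteValuationRing.eq_unit_mul_pow_irreducible (nonZeroDivisors.ne_zero hb) hπ
      refine ⟨⟨a * (↑u⁻¹ : R), ⟨π ^ m, m, rfl⟩⟩, ?_⟩
      have hu : algebraMap R K (u : R) ≠ 0 := fun e => u.ne_zero ((IsFractionRing.injective R K) (e.trans (map_zero _).symm))
      have hp : algebraMap R K π ≠ 0 := fun e => hπ.ne_zero ((IsFractionRing.injective R K) (e.trans (map_zero _).symm))
      simp only [map_mul, map_pow]
      rw [show algebraMap R K (↑u⁻¹ : R) = (algebraMap R K (u : R))⁻¹ from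
        eq_inv_of_mul_eq_one_left (by rw [← map_mul, Units.inv_mul, map_one])]
      field_simp
  exact IsOpenImmersion.of_isLocalization π

/-- Trivial on the generic fibre gives trivial away from the closed fibre. -/
theorem pull_away_eq_one {Y Q : Scheme.{u}} (g : Y ⟶ Spec (CommRingCat.of R)) {π : R} (hπ : Irreducible π)
    {K : Type u} [Field K] [Algebra R K] [IsFractionRing R K] {i : Q ⟶ Y} {q : Q ⟶ Spec (CommRingCat.of K)}
    (H : IsPullback i q g (Spec.map (CommRingCat.ofHom (algebraMap R K)))) (n : Pic Y) (h : pull i n = 1) :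
    pull (away g π).ι n = 1 := by
  haveI := isOpenImmersion_frac (R := R) (K := K)
  have hr : Set.range ((away g π).ι ≫ g) ⊆ Set.range (Spec.map (CommRingCat.ofHom (algebraMap R K))) := by
    rintro _ ⟨y, rfl⟩
    have hy : π ∉ (g y.1).asIdeal := by
      have hmem : y.1 ∈ g ⁻¹ᵁ (Spec (CommRingCat.of R)).basicOpen ((Scheme.ΓSpecIso (CommRingCat.of R)).inv π) := by
        rw [Scheme.preimage_basicOpen]
        have h1 : y.1 ∈ Y.basicOpen (cst g ⊤ π) := y.2
        rwa [show cst g ⊤ π = g.appTop ((Scheme.ΓSpecIso (CommRingCat.of R)).inv π) by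
          show (g.appLE ⊤ ⊤ le_top).hom _ = _
          rw [show g.appLE ⊤ ⊤ le_top = g.appTop from Scheme.Hom.appLE_eq_app _]] at h1
      rw [Scheme.Hom.mem_preimage] at hmem
      erw [basicOpen_eq_of_affine] at hmem
      exact hmem
    refine ⟨genericPoint _, ?_⟩
    refine PrimeSpectrum.ext ?_
    show Ideal.comap (algebraMap R K) (genericPoint (Spec (CommRingCat.of K))).asIdeal = _
    rw [show ((away g π).ι ≫ g) y = g y.1 from rfl, eq_closedPoint_or_notMem hπ _ hy,
      (Ideal.eq_bot_or_top (genericPoint (Spec (CommRingCat.of K))).asIdeal).resolve_right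
        (genericPoint (Spec (CommRingCat.of K))).2.ne_top]
    exact Ideal.comap_bot_of_injective _ (IsFractionRing.injective R K)
  let w := IsOpenImmersion.lift (Spec.map (CommRingCat.ofHom (algebraMap R K))) ((away g π).ι ≫ g) hr
  rw [← H.lift_fst (away g π).ι w (IsOpenImmersion.lift_fac _ _ _).symm, ← pull_comp, h, map_one]

theorem eq_one_of_connected [HenselianLocalRing R] {Y : Scheme.{u}} (g : Y ⟶ Spec (CommRingCat.of R))
    [IsProper g] [Smooth g] [ConnectedSpace Y] {π : R} (hπ : Irreducible π) (n : Pic Y)
    (h : pull (away g π).ι n = 1) : n = 1 := by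
  obtain ⟨c⟩ := n
  show cls c = 1
  have h' : Triv (c.comap (away g π).ι) := cls_eq_one_iff.1 ((pull_cls _ c).symm.trans h)
  rw [cls_eq_one_iff]
  haveI : IsLocallyNoetherian Y := LocallyOfFiniteType.isLocallyNoetherian g
  haveI : CompactSpace Y := QuasiCompact.compactSpace_of_compactSpace g
  haveI : QuasiSeparatedSpace Y := inferInstance
  let r := Spec.map (CommRingCat.ofHom (residue R))
  let X₀ := pullback g r
  have H : IsPullback (pullback.fst g r) (pullback.snd g r) g r := IsPullback.of_hasPullback g r
  haveI : IsClosedImmersion r := IsClosedImmersion.spec_of_surjective _ Ideal.Quotient.mk_surjective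
  haveI : IsClosedImmersion (pullback.fst g r) := inferInstance
  let pt : ↥(Spec (CommRingCat.of R)) := IsLocalRing.closedPoint R
  have hrange : Set.range (pullback.fst g r) = g ⁻¹' {pt} := by
    rw [Scheme.Pullback.range_fst]
    congr 1
    ext z
    constructor
    · rintro ⟨y, rfl⟩
      rw [Subsingleton.elim y (IsLocalRing.closedPoint (ResidueField R))]
      exact IsLocalRing.comap_closedPoint (residue R)
    · rintro rfl
      exact ⟨IsLocalRing.closedPoint (ResidueField R), IsLocalRing.comap_closedPoint (residue R)⟩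
  haveI : PreconnectedSpace ↥X₀ := by
    refine ⟨?_⟩
    rw [← (pullback.fst g r).isEmbedding.isInducing.isPreconnected_image, Set.image_univ, hrange]
    have := Chev28.isPreconnected_closure_inter_closedFibre g (S := Set.univ) isPreconnected_univ
    rwa [closure_univ, Set.univ_inter] at this
  haveI : Nonempty ↥X₀ := by
    obtain ⟨y⟩ := (inferInstance : Nonempty Y)
    have hc : IsClosed (g '' Set.univ) := g.isClosedMap _ isClosed_univ
    obtain ⟨z, -, hz⟩ : pt ∈ g '' Set.univ :=
      (IsLocalRing.specializes_closedPoint (g y)).mem_closed hc ⟨y, trivial, rfl⟩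
    obtain ⟨w, -⟩ := hrange.ge (show z ∈ g ⁻¹' {pt} from hz)
    exact ⟨w⟩
  haveI : ConnectedSpace ↥X₀ := ⟨‹Nonempty ↥X₀›⟩
  haveI : Smooth (pullback.snd g r) := inferInstance
  haveI : IsLocallyNoetherian X₀ := LocallyOfFiniteType.isLocallyNoetherian (pullback.snd g r)
  haveI : CompactSpace ↥X₀ := QuasiCompact.compactSpace_of_compactSpace (pullback.snd g r)
  haveI : IsNoetherian X₀ := {}
  haveI : IsIntegral X₀ := Ref1.isIntegral_of_connected fun x => by
    haveI := WeilExt.isRegularLocalRing_stalk_of_smooth (pullback.snd g r)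
      (fun s => WeilExt.isRegularLocalRing_stalk_spec (ResidueField R) s) x
    exact GrothLib.CMFree.isDomain_of_isRegularLocalRing _
  exact triv_of_away g c π (isRegular_of_ne_zero hπ.ne_zero).right H IsLocalRing.residue_surjective
    (by rw [IsLocalRing.ker_residue]; exact hπ.maximalIdeal_eq) h'

/-- A class trivial on the generic fibre of a smooth proper scheme over a henselian DVR is trivial. -/
theorem eq_one_of_away [HenselianLocalRing R] {Y : Scheme.{u}} (g : Y ⟶ Spec (CommRingCat.of R))
    [IsProper g] [Smooth g] {π : R} (hπ : Irreducible π) (n : Pic Y) (h : pull (away g π).ι n = 1) : n = 1 := by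
  haveI : IsLocallyNoetherian Y := LocallyOfFiniteType.isLocallyNoetherian g
  haveI : CompactSpace Y := QuasiCompact.compactSpace_of_compactSpace g
  haveI : IsNoetherian Y := {}
  let O : _root_.ConnectedComponents Y → Y.Opens := fun C =>
    ⟨ConnectedComponents.mk ⁻¹' {C}, by
      obtain ⟨y, rfl⟩ := ConnectedComponents.surjective_coe C
      rw [connectedComponents_preimage_singleton]
      exact SecComp6.isOpen_connectedComponent_noetherian y⟩
  refine RigDesc26.eq_one_of_disjoint (fun C => (O C).ι) (fun y => ⟨ConnectedComponents.mk y, ⟨y, rfl⟩, rfl⟩)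
    (fun C C' hne z z' e => hne ?_) fun C => ?_
  · exact z.2.symm.trans ((congrArg ConnectedComponents.mk e).trans z'.2)
  · haveI : IsClosedImmersion (O C).ι := by
      refine IsClosedImmersion.of_isPreimmersion _ ?_
      rw [Scheme.Opens.range_ι]
      obtain ⟨y, rfl⟩ := ConnectedComponents.surjective_coe C
      show IsClosed (ConnectedComponents.mk ⁻¹' {_})
      rw [connectedComponents_preimage_singleton]
      exact isClosed_connectedComponent
    haveI : ConnectedSpace ↥(O C : Scheme.{u}) := by
      obtain ⟨y, rfl⟩ := ConnectedComponents.surjective_coe C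
      show ConnectedSpace ↥(ConnectedComponents.mk ⁻¹' {ConnectedComponents.mk y} : Set Y)
      rw [connectedComponents_preimage_singleton]
      exact isConnected_iff_connectedSpace.1 isConnected_connectedComponent
    haveI : IsProper ((O C).ι ≫ g) := inferInstance
    haveI : Smooth ((O C).ι ≫ g) := inferInstance
    refine eq_one_of_connected ((O C).ι ≫ g) hπ _ ?_
    let e : away ((O C).ι ≫ g) π = (O C).ι ⁻¹ᵁ away g π := by
      show _ = (O C).ι ⁻¹ᵁ Y.basicOpen _
      rw [Scheme.preimage_basicOpen]
      show (O C : Scheme.{u}).basicOpen _ = _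
      congr 1
      rw [← appLE_cst (O C).ι g (V := ⊤) (W := ⊤) le_top, Scheme.Hom.app_eq_appLE]
      rfl
    have hr : Set.range ((away ((O C).ι ≫ g) π).ι ≫ (O C).ι) ⊆ Set.range (away g π).ι := by
      rintro _ ⟨z, rfl⟩
      rw [Scheme.Opens.range_ι]
      exact e.le z.2
    rw [pull_comp, ← IsOpenImmersion.lift_fac (away g π).ι _ hr, ← pull_comp, h, map_one]

/-- A class trivial on the generic fibre is trivial. -/
theorem eq_one_of_generic (B : CDVR.{u}) {Y Q : Scheme.{u}} (g : Y ⟶ Spec (CommRingCat.of B.R)) [IsProper g] [Smooth g]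
    {i : Q ⟶ Y} {q : Q ⟶ Spec (CommRingCat.of (FractionRing B.R))}
    (H : IsPullback i q g (Spec.map (CommRingCat.ofHom (algebraMap B.R (FractionRing B.R))))) (n : Pic Y)
    (h : pull i n = 1) : n = 1 := by
  obtain ⟨π, hπ⟩ := IsDiscreteValuationRing.exists_irreducible B.R
  exact eq_one_of_away g hπ n (pull_away_eq_one g hπ H n h)

end GrothLib.PicVal26
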