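import Groth.Agent.Lib.PicVal26.Generic
import Groth.Agent.Lib.PicLim26.Lft
import Groth.Agent.Lib.RigDesc26.Points
import Groth.Agent.Lib.InvExt.ExtendMain
import Groth.Agent.Lib.RegUFD.Basic

/-!
# The Picard scheme of a smooth proper morphism is separated, and its closed parts of finite type are proper
-/

set_option autoImplicit false
set_option backward.isDefEq.respectTransparency false
set_option linter.all false
set_option synthInstance.maxHeartbeats 200000
set_option maxHeartbeats 800000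

universe u

open CategoryTheory CategoryTheory.Limits AlgebraicGeometry Opposite TopologicalSpace IsLocalRing
open GrothLib.Cube

noncomputable section

namespace GrothLib.PicVal26

variable {X S : Scheme.{u}} (f : X ⟶ S) {P : Over S} {φ : ∀ T : Over S, PicF.Cl (PicF.XT f T) → (T ⟶ P)}
  (hP : PicRel.IsRelPic f P φ)
include hP

theorem pt_pull {T T' : Over S} (g : T' ⟶ T) (n : Pic (PicF.XT f T)) :
    RigDesc26.pt f φ T' (pull (PicF.XTmap f g) n) = g ≫ RigDesc26.pt f φ T n := by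
  obtain ⟨M, hM, rfl⟩ := RigDesc26.exists_module n
  rw [← clsMod_pullback _ hM, RigDesc26.pt_clsMod, RigDesc26.pt_clsMod]
  exact hP.natural T T' g _ ⟨M, rfl, hM⟩

variable {R : Type u} [CommRing R] [IsDomain R] [IsDiscreteValuationRing R]

/-- Points over discrete valuation rings come from classes after an extension. -/
theorem exists_class (b : Spec (CommRingCat.of R) ⟶ S) (l : Over.mk b ⟶ P) :
    ∃ (B : CDVR.{u}) (ψ : R →+* B.R) (n : Pic (PicF.XT f (Over.mk (Spec.map (CommRingCat.ofHom ψ) ≫ b)))),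
      IsLocalHom ψ ∧ Function.Injective ψ ∧
      (RigDesc26.pt f φ _ n).left = Spec.map (CommRingCat.ofHom ψ) ≫ l.left := by
  obtain ⟨ι, U, hU, hc⟩ := hP.locallySurjective (Over.mk b) l
  obtain ⟨i, u, hu⟩ := hU (IsLocalRing.closedPoint R : ↥(Spec (CommRingCat.of R)))
  obtain ⟨c, ⟨M, hM, hinv⟩, hcl⟩ := hc i
  haveI : Etale (U i).hom := (U i).prop
  obtain ⟨B, ψ, v, hψl, hψi, hv⟩ := exists_cdvr_etale (R := R) (U i).hom u hu
  let v' : Over.mk (Spec.map (CommRingCat.ofHom ψ) ≫ b) ⟶ PicRel.ovr (Over.mk b) (U i) :=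
    Over.homMk v (by show v ≫ (U i).hom ≫ b = _; erw [reassoc_of% hv]; rfl)
  refine ⟨B, ψ, pull (PicF.XTmap f v') (clsMod hinv), hψl, hψi, ?_⟩
  rw [pt_pull f hP, RigDesc26.pt_clsMod, hM, hcl]
  show v ≫ (U i).hom ≫ l.left = _
  erw [reassoc_of% hv]

variable [IsProper f] [Smooth f]

/-- Classes with the same point on the generic point have the same point after an extension. -/
theorem eq_of_pt_generic (B : CDVR.{u}) (b : Spec (CommRingCat.of B.R) ⟶ S) (n₁ n₂ : Pic (PicF.XT f (Over.mk b)))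
    (h : Spec.map (CommRingCat.ofHom (algebraMap B.R (FractionRing B.R))) ≫ (RigDesc26.pt f φ _ n₁).left =
      Spec.map (CommRingCat.ofHom (algebraMap B.R (FractionRing B.R))) ≫ (RigDesc26.pt f φ _ n₂).left) :
    (RigDesc26.pt f φ _ n₁).left = (RigDesc26.pt f φ _ n₂).left := by
  let K := FractionRing B.R
  let η := Spec.map (CommRingCat.ofHom (algebraMap B.R K))
  let ηT : Over.mk (η ≫ b) ⟶ Over.mk b := Over.homMk η rfl
  have h' : RigDesc26.pt f φ _ (pull (PicF.XTmap f ηT) n₁) = RigDesc26.pt f φ _ (pull (PicF.XTmap f ηT) n₂) := by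
    rw [pt_pull f hP, pt_pull f hP]
    exact Over.OverMorphism.ext h
  obtain ⟨M₁, hM₁, e₁⟩ := RigDesc26.exists_module (pull (PicF.XTmap f ηT) n₁)
  obtain ⟨M₂, hM₂, e₂⟩ := RigDesc26.exists_module (pull (PicF.XTmap f ηT) n₂)
  rw [← e₁, ← e₂, RigDesc26.pt_clsMod, RigDesc26.pt_clsMod] at h'
  obtain ⟨ι, U, hU, hc⟩ := hP.locallyInjective _ _ _ ⟨M₁, rfl, hM₁⟩ ⟨M₂, rfl, hM₂⟩ h'
  obtain ⟨i, u, -⟩ := hU (IsLocalRing.closedPoint K : ↥(Spec (CommRingCat.of K)))
  haveI : Etale (U i).hom := (U i).prop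
  obtain ⟨B', ψ, v, hψl, hψi, hv⟩ := exists_cdvr_generic (R := B.R) (K := K) (U i).hom u
  let r := Spec.map (CommRingCat.ofHom ψ)
  let η' := Spec.map (CommRingCat.ofHom (algebraMap B'.R (FractionRing B'.R)))
  let rT : Over.mk (r ≫ b) ⟶ Over.mk b := Over.homMk r rfl
  let ηT' : Over.mk (η' ≫ r ≫ b) ⟶ Over.mk (r ≫ b) := Over.homMk η' rfl
  let vT : Over.mk (η' ≫ r ≫ b) ⟶ PicRel.ovr (Over.mk (η ≫ b)) (U i) := Over.homMk v (by
    show v ≫ (U i).hom ≫ η ≫ b = η' ≫ r ≫ b
    have := congrArg (· ≫ b) hv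
    simp only [Category.assoc] at this
    exact this)
  have hcomp : vT ≫ PicRel.ovrHom (Over.mk (η ≫ b)) (U i) ≫ ηT = ηT' ≫ rT := Over.OverMorphism.ext hv
  have e : pull (PicF.XTmap f (PicRel.ovrHom (Over.mk (η ≫ b)) (U i))) (clsMod hM₁) =
      pull (PicF.XTmap f (PicRel.ovrHom (Over.mk (η ≫ b)) (U i))) (clsMod hM₂) := by
    rw [← clsMod_pullback _ hM₁, ← clsMod_pullback _ hM₂]
    exact (clsMod_eq_iff _ _).2 (PicSep26.cl_eq_iff.1 (hc i))
  have hpair : pull (PicF.XTmap f ηT') (pull (PicF.XTmap f rT) n₁) =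
      pull (PicF.XTmap f ηT') (pull (PicF.XTmap f rT) n₂) := by
    rw [pull_comp, pull_comp, RigDesc26.XTmap_comp, ← hcomp, ← RigDesc26.XTmap_comp, ← RigDesc26.XTmap_comp,
      ← pull_comp, ← pull_comp, ← pull_comp, ← pull_comp, ← e₁, ← e₂]
    exact congrArg _ e
  haveI : IsProper (PicF.XTproj f (Over.mk (r ≫ b))) := inferInstance
  haveI : Smooth (PicF.XTproj f (Over.mk (r ≫ b))) := inferInstance
  have heq : pull (PicF.XTmap f rT) n₁ = pull (PicF.XTmap f rT) n₂ := by
    refine eq_of_mul_inv_eq_one (eq_one_of_generic B' (PicF.XTproj f (Over.mk (r ≫ b)))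
      (RigDesc26.isPullback_XTmap f ηT') _ ?_)
    rw [map_mul, map_inv, hpair, mul_inv_cancel]
  have hr := congrArg (fun z => (RigDesc26.pt f φ _ z).left) heq
  simp only [pt_pull f hP] at hr
  obtain ⟨-, hepi⟩ := epi_specMap ψ hψi
  haveI := hepi
  exact (cancel_epi r).1 hr

/-- Uniqueness over discrete valuation rings. -/
theorem eq_of_generic {K : Type u} [Field K] [Algebra R K] [IsFractionRing R K] (b : Spec (CommRingCat.of R) ⟶ S)
    (l₁ l₂ : Over.mk b ⟶ P)
    (h : Spec.map (CommRingCat.ofHom (algebraMap R K)) ≫ l₁.left =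
      Spec.map (CommRingCat.ofHom (algebraMap R K)) ≫ l₂.left) : l₁.left = l₂.left := by
  obtain ⟨B₁, ψ₁, n₁, hl₁, hi₁, hn₁⟩ := exists_class f hP b l₁
  let r₁ := Spec.map (CommRingCat.ofHom ψ₁)
  let r₁T : Over.mk (r₁ ≫ b) ⟶ Over.mk b := Over.homMk r₁ rfl
  obtain ⟨B₂, ψ₂, n₂, hl₂, hi₂, hn₂⟩ := exists_class f hP (r₁ ≫ b) (r₁T ≫ l₂)
  let r₂ := Spec.map (CommRingCat.ofHom ψ₂)
  let r₂T : Over.mk (r₂ ≫ r₁ ≫ b) ⟶ Over.mk (r₁ ≫ b) := Over.homMk r₂ rfl
  haveI := (epi_specMap ψ₁ hi₁).2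
  haveI := (epi_specMap ψ₂ hi₂).2
  have e₁ : (RigDesc26.pt f φ _ (pull (PicF.XTmap f r₂T) n₁)).left = r₂ ≫ r₁ ≫ l₁.left := by
    rw [pt_pull f hP, Over.comp_left, hn₁]
    rfl
  let ι : K →+* FractionRing B₂.R := IsFractionRing.lift (K := K)
    (g := (algebraMap B₂.R (FractionRing B₂.R)).comp (ψ₂.comp ψ₁))
    ((IsFractionRing.injective B₂.R _).comp (hi₂.comp hi₁))
  have hι : Spec.map (CommRingCat.ofHom (algebraMap B₂.R (FractionRing B₂.R))) ≫ r₂ ≫ r₁ =
      Spec.map (CommRingCat.ofHom ι) ≫ Spec.map (CommRingCat.ofHom (algebraMap R K)) := by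
    have hι₀ : ι.comp (algebraMap R K) = (algebraMap B₂.R (FractionRing B₂.R)).comp (ψ₂.comp ψ₁) :=
      RingHom.ext fun x => IsFractionRing.lift_algebraMap (K := K)
        (g := (algebraMap B₂.R (FractionRing B₂.R)).comp (ψ₂.comp ψ₁))
        ((IsFractionRing.injective B₂.R _).comp (hi₂.comp hi₁)) x
    rw [← Spec.map_comp, ← Spec.map_comp, ← Spec.map_comp, ← CommRingCat.ofHom_comp, ← CommRingCat.ofHom_comp,
      ← CommRingCat.ofHom_comp, hι₀]
  have hkey := eq_of_pt_generic f hP B₂ (r₂ ≫ r₁ ≫ b) (pull (PicF.XTmap f r₂T) n₁) n₂ (by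
    rw [e₁, hn₂]
    show _ ≫ r₂ ≫ r₁ ≫ l₁.left = _ ≫ r₂ ≫ r₁ ≫ l₂.left
    rw [reassoc_of% hι, reassoc_of% hι, h])
  rw [e₁, hn₂] at hkey
  exact (cancel_epi r₁).1 ((cancel_epi r₂).1 hkey)

/-- The representing scheme is separated. -/
theorem isSeparated [IsLocallyNoetherian S] : IsSeparated P.hom := by
  haveI := GrothLib.PicLim26.locallyOfFiniteType f hP
  refine DVRDom.isSeparated_of_lifts P.hom (𝟙 P.left) (fun _ => True) (fun x => ⟨x, trivial, specializes_rfl⟩) ?_
  intro u V _ hV l₁ l₂ hl h₁ h₂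
  haveI := hV
  exact eq_of_generic f hP (R := V) (K := P.left.residueField u) (l₁ ≫ P.hom) (Over.homMk l₁ rfl)
    (Over.homMk l₂ hl.symm) (h₁.trans h₂.symm)

/-- Points over the fraction field extend after an extension. -/
theorem exists_extension {K : Type u} [Field K] [Algebra R K] [IsFractionRing R K] (b : Spec (CommRingCat.of R) ⟶ S)
    (p : Spec (CommRingCat.of K) ⟶ P.left)
    (hp : p ≫ P.hom = Spec.map (CommRingCat.ofHom (algebraMap R K)) ≫ b) :
    ∃ (B : CDVR.{u}) (ψ : R →+* B.R) (w : Spec (CommRingCat.of (FractionRing B.R)) ⟶ Spec (CommRingCat.of K))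
      (m : Spec (CommRingCat.of B.R) ⟶ P.left), IsLocalHom ψ ∧
      m ≫ P.hom = Spec.map (CommRingCat.ofHom ψ) ≫ b ∧
      w ≫ Spec.map (CommRingCat.ofHom (algebraMap R K)) =
        Spec.map (CommRingCat.ofHom (algebraMap B.R (FractionRing B.R))) ≫ Spec.map (CommRingCat.ofHom ψ) ∧
      Spec.map (CommRingCat.ofHom (algebraMap B.R (FractionRing B.R))) ≫ m = w ≫ p := by
  let η := Spec.map (CommRingCat.ofHom (algebraMap R K))
  obtain ⟨ι, U, hU, hc⟩ := hP.locallySurjective (Over.mk (η ≫ b)) (Over.homMk p hp)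
  obtain ⟨i, u, -⟩ := hU (IsLocalRing.closedPoint K : ↥(Spec (CommRingCat.of K)))
  obtain ⟨c, ⟨M, hM, hinv⟩, hcl⟩ := hc i
  haveI : Etale (U i).hom := (U i).prop
  obtain ⟨B, ψ, v, hψl, hψi, hv⟩ := exists_cdvr_generic (R := R) (K := K) (U i).hom u
  let r := Spec.map (CommRingCat.ofHom ψ)
  let η' := Spec.map (CommRingCat.ofHom (algebraMap B.R (FractionRing B.R)))
  let T := Over.mk (r ≫ b)
  let ηT : Over.mk (η' ≫ r ≫ b) ⟶ T := Over.homMk η' rfl
  let vT : Over.mk (η' ≫ r ≫ b) ⟶ PicRel.ovr (Over.mk (η ≫ b)) (U i) := Over.homMk v (by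
    show v ≫ (U i).hom ≫ η ≫ b = η' ≫ r ≫ b
    have := congrArg (· ≫ b) hv
    simp only [Category.assoc] at this
    exact this)
  obtain ⟨N, hN, eN⟩ := RigDesc26.exists_module (pull (PicF.XTmap f vT) (clsMod hinv))
  let j := PicF.XTmap f ηT
  haveI : IsOpenImmersion j := by
    haveI := isOpenImmersion_frac (R := B.R) (K := FractionRing B.R)
    exact MorphismProperty.of_isPullback (P := @IsOpenImmersion) (RigDesc26.isPullback_XTmap f ηT).flip
      (inferInstanceAs (IsOpenImmersion η'))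
  haveI : Smooth (PicF.XTproj f T) := inferInstance
  haveI : IsLocallyNoetherian T.left := inferInstanceAs (IsLocallyNoetherian (Spec (CommRingCat.of B.R)))
  haveI : IsLocallyNoetherian (PicF.XT f T) := LocallyOfFiniteType.isLocallyNoetherian (PicF.XTproj f T)
  let e := IsOpenImmersion.isoOfRangeEq j j.opensRange.ι (by rw [Scheme.Opens.range_ι]; rfl)
  obtain ⟨L, hL, ⟨eL⟩⟩ := InvExt.exists_extension (PicF.XT f T) j.opensRange ((Scheme.Modules.pullback e.inv).obj N)
    (GrothLib.Ample.isInvertible_pullback e.inv hN) fun x _ => by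
      haveI := WeilExt.isRegularLocalRing_stalk_of_smooth (PicF.XTproj f T)
        (fun s => WeilExt.isRegularLocalRing_stalk_spec B.R s) x
      haveI : IsDomain ((PicF.XT f T).presheaf.stalk x) := GrothLib.CMFree.isDomain_of_isRegularLocalRing _
      obtain ⟨d, hd⟩ : ∃ d : ℕ, ringKrullDim ((PicF.XT f T).presheaf.stalk x) = d :=
        ⟨_, (IsRegularLocalRing.spanFinrank_maximalIdeal).symm⟩
      exact GrothLib.RegUFD.uniqueFactorizationMonoid_of_regular d _ hd.le
  have hext : pull j (clsMod hL) = clsMod hN := by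
    have e1 : pull j.opensRange.ι (clsMod hL) = pull e.inv (clsMod hN) := by
      rw [← clsMod_pullback _ hL, ← clsMod_pullback _ hN, clsMod_eq_iff]
      exact ⟨((Scheme.Modules.restrictFunctorIsoPullback _).app L).symm ≪≫ eL⟩
    calc pull j (clsMod hL) = pull (e.hom ≫ j.opensRange.ι) (clsMod hL) := by
          rw [IsOpenImmersion.isoOfRangeEq_hom_fac]
      _ = pull e.hom (pull e.inv (clsMod hN)) := by rw [← pull_comp, e1]
      _ = clsMod hN := by rw [pull_comp, e.hom_inv_id, pull_id]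
  refine ⟨B, ψ, v ≫ (U i).hom, (RigDesc26.pt f φ T (clsMod hL)).left, hψl, Over.w (RigDesc26.pt f φ T (clsMod hL)),
    by rw [Category.assoc]; exact hv, ?_⟩
  have := congrArg CommaMorphism.left (pt_pull f hP ηT (clsMod hL))
  rw [hext, eN, pt_pull f hP, RigDesc26.pt_clsMod, hM, hcl] at this
  refine this.symm.trans ?_
  rw [Category.assoc]
  rfl

/-- Closed subschemes of finite type are proper. -/
theorem isProper_closed [IsLocallyNoetherian S] (Z : Scheme.{u}) (i : Z ⟶ P.left) [IsClosedImmersion i]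
    [LocallyOfFiniteType (i ≫ P.hom)] [QuasiCompact (i ≫ P.hom)] : IsProper (i ≫ P.hom) := by
  haveI := isSeparated f hP
  let g := i ≫ P.hom
  haveI : LocallyOfFiniteType g := ‹LocallyOfFiniteType (i ≫ P.hom)›
  haveI : QuasiCompact g := ‹QuasiCompact (i ≫ P.hom)›
  haveI : IsSeparated g := inferInstanceAs (IsSeparated (i ≫ P.hom))
  have hE : ValuativeCriterion.Existence g :=
    DVRDom.existence_of_lifts_of_isSeparated g (𝟙 Z) (fun _ => True) (fun x => ⟨x, trivial, specializes_rfl⟩)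
      (fun u V => IsDiscreteValuationRing V) (DVRDom.exists_dvr_pick g (𝟙 Z)) fun u V _ hV => by
    haveI := hV
    intro y hy
    let L := Z.residueField u
    let q : Spec (CommRingCat.of L) ⟶ Z := Z.fromSpecResidueField u ≫ 𝟙 Z
    have hy' : q ≫ g = Spec.map (CommRingCat.ofHom (algebraMap V L)) ≫ y := hy.symm
    obtain ⟨B, ψ, w, m, hψl, hm, hw, hmq⟩ := exists_extension f hP (R := V) (K := L) y (q ≫ i)
      (by rw [Category.assoc]; exact hy')
    haveI := hψl
    let η' := Spec.map (CommRingCat.ofHom (algebraMap B.R (FractionRing B.R)))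
    let c := pullback.fst m i
    haveI : IsClosedImmersion c := inferInstance
    let l₀ := pullback.lift η' (w ≫ q) (by rw [Category.assoc]; exact hmq)
    haveI : Surjective c := ⟨fun x => by
      show x ∈ Set.range c
      let η₀ : ↥(Spec (CommRingCat.of (FractionRing B.R))) := IsLocalRing.closedPoint _
      have h1 : η' η₀ ∈ Set.range c :=
        ⟨l₀ η₀, by rw [← Scheme.Hom.comp_apply, pullback.lift_fst]⟩
      refine Specializes.mem_closed ?_ c.isClosedEmbedding.isClosed_range h1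
      refine (PrimeSpectrum.le_iff_specializes (show PrimeSpectrum B.R from η' η₀) (show PrimeSpectrum B.R from x)).1 ?_
      show Ideal.comap (algebraMap B.R (FractionRing B.R)) (IsLocalRing.maximalIdeal (FractionRing B.R)) ≤ _
      rw [IsLocalRing.maximalIdeal_eq_bot, Ideal.comap_bot_of_injective _ (IsFractionRing.injective B.R _)]
      exact bot_le⟩
    haveI : IsReduced (Spec (CommRingCat.of B.R)) := inferInstance
    haveI : IsIso c := isIso_of_isClosedImmersion_of_surjective c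
    let mZ := inv c ≫ pullback.snd m i
    have hmZ : mZ ≫ i = m := by rw [Category.assoc, ← pullback.condition, IsIso.inv_hom_id_assoc]
    have hmZq : η' ≫ mZ = w ≫ q := by
      rw [← cancel_mono i, Category.assoc, hmZ, Category.assoc]
      exact hmq
    let cB : ↥(Spec (CommRingCat.of B.R)) := IsLocalRing.closedPoint B.R
    obtain ⟨_, ⟨V₀, hV₀, rfl⟩, hyV₀, -⟩ := S.isBasis_affineOpens.exists_subset_of_mem_open
      (Set.mem_univ (g (mZ cB))) isOpen_univ
    obtain ⟨_, ⟨W, hW, rfl⟩, hzW, hWV⟩ := Z.isBasis_affineOpens.exists_subset_of_mem_open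
      (show mZ cB ∈ g ⁻¹ᵁ V₀ from hyV₀) (g ⁻¹ᵁ V₀).2
    have hy₀ : y (IsLocalRing.closedPoint V) ∈ V₀ := by
      have e1 : mZ ≫ g = Spec.map (CommRingCat.ofHom ψ) ≫ y := by
        show mZ ≫ i ≫ P.hom = _
        rw [reassoc_of% hmZ, hm]
      have e2 : g (mZ cB) = y (IsLocalRing.closedPoint V) := by
        rw [← Scheme.Hom.comp_apply, e1, Scheme.Hom.comp_apply]
        exact congrArg y (IsLocalRing.comap_closedPoint ψ)
      rw [← e2]
      exact hyV₀
    have hq : q (IsLocalRing.closedPoint L) ∈ W := by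
      have h1 := DVRDom.mem_of_closedPoint_mem mZ hzW (η' (IsLocalRing.closedPoint (FractionRing B.R)))
      rw [← Scheme.Hom.comp_apply, hmZq, Scheme.Hom.comp_apply] at h1
      rwa [Subsingleton.elim (w _) (IsLocalRing.closedPoint L : ↥(Spec (CommRingCat.of L)))] at h1
    obtain ⟨D, hD⟩ := DVRDom.exists_specMap_eq mZ hW hzW
    let ι := Spec.preimage w
    have hι : Spec.map ι = w := Spec.map_preimage _
    have hcomm : DVRDom.ev q W hq ≫ ι = D ≫ CommRingCat.ofHom (algebraMap B.R (FractionRing B.R)) := by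
      apply DVRDom.specMap_injective hW
      rw [Spec.map_comp, Category.assoc, DVRDom.specMap_ev, hι, Spec.map_comp, Category.assoc, hD]
      exact hmZq.symm
    have hιV : CommRingCat.ofHom (algebraMap V L) ≫ ι =
        CommRingCat.ofHom ψ ≫ CommRingCat.ofHom (algebraMap B.R (FractionRing B.R)) := by
      apply Spec.map_injective
      rw [Spec.map_comp, Spec.map_comp, hι]
      exact hw
    obtain ⟨l, -, hl₁, hl₂⟩ := DVRDom.exists_lift_of_range_le (IsFractionRing.injective V L) g q y hy' hW hV₀ hWV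
      hy₀ hq (fun a => by
        by_contra ha
        have hne : (DVRDom.ev q W hq).hom a ≠ 0 := fun h0 => ha (h0 ▸ zero_mem _)
        have hinv : ((DVRDom.ev q W hq).hom a)⁻¹ ∈ V :=
          (V.mem_or_inv_mem _).resolve_left fun h' => ha ⟨⟨_, h'⟩, rfl⟩
        have hnu : ¬ IsUnit (⟨_, hinv⟩ : V) := fun hu => by
          obtain ⟨b, hb⟩ := hu.exists_right_inv
          refine ha ⟨b, ?_⟩
          have hb' : ((DVRDom.ev q W hq).hom a)⁻¹ * (b : L) = 1 := congrArg Subtype.val hb
          show (b : L) = _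
          rw [← inv_inv ((DVRDom.ev q W hq).hom a), inv_eq_of_mul_eq_one_right hb']
        have h1 : algebraMap B.R (FractionRing B.R) (ψ ⟨_, hinv⟩ * D.hom a) = 1 := by
          rw [map_mul]
          have e1 := ConcreteCategory.congr_hom hιV (⟨_, hinv⟩ : V)
          have e2 := ConcreteCategory.congr_hom hcomm a
          refine (congrArg₂ (· * ·) e1.symm e2.symm).trans ?_
          show ι.hom _ * ι.hom _ = 1
          rw [← map_mul]
          refine (congrArg ι.hom ?_).trans (map_one _)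
          exact inv_mul_cancel₀ hne
        rw [← map_one (algebraMap B.R (FractionRing B.R))] at h1
        exact hnu (isUnit_of_map_unit ψ _ (IsUnit.of_mul_eq_one _ (IsFractionRing.injective B.R _ h1))))
    exact ⟨l, hl₂, hl₁⟩
  have := UniversallyClosed.of_valuativeCriterion g hE
  exact {}

end GrothLib.PicVal26
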